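import Groth.Agent.Lib.SpecSeq.HomExt
import Mathlib.Algebra.Homology.DerivedCategory.Ext.Linear
import Mathlib.CategoryTheory.Linear.Yoneda
import Mathlib.Algebra.Homology.ShortComplex.ModuleCat

/-!
# `Ext` from an injective resolution, linearly

In an `R`-linear abelian category, `Hⁿ(Hom(A, J•)) ≅ Extⁿ(A, Y)` as `R`-modules for an injective
resolution `J` of `Y`.
-/

universe v u

open CategoryTheory Limits Opposite Abelian

namespace Groth.Agent.Lib.ExtLin.Inj

variable {R : Type v} [CommRing R] {C : Type u} [Category.{v} C] [Abelian C] [Linear R C] [HasExt.{v} C]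
  {A Y : C} (J : InjectiveResolution Y)

variable (R) in
/-- `Hom(A, J•)` in `R`-modules. -/
noncomputable abbrev homCx (A : C) : CochainComplex (ModuleCat.{v} R) ℕ :=
  (((linearCoyoneda R C).obj (op A)).mapHomologicalComplex _).obj J.cocomplex

theorem smul_extMk {n : ℕ} (r : R) (f : A ⟶ J.cocomplex.X n) (hf : f ≫ J.cocomplex.d n (n + 1) = 0) :
    J.extMk (r • f) (n + 1) rfl (by rw [Linear.smul_comp, hf, smul_zero]) =
      r • J.extMk f (n + 1) rfl hf := by
  have h := J.mk₀_comp_extMk f (n + 1) rfl hf (r • 𝟙 A)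
  rw [Ext.mk₀_smul, Ext.smul_comp, Ext.mk₀_id_comp] at h
  simp only [Linear.smul_comp, Category.id_comp] at h
  exact h.symm

variable (R A) in
/-- Cocycles map to `Ext`, linearly. -/
noncomputable def toExt (n : ℕ) :
    LinearMap.ker ((homCx R J A).sc' (n - 1) n (n + 1)).g.hom →ₗ[R] Ext A Y n where
  toFun f := J.extMk (f.1 : A ⟶ J.cocomplex.X n) (n + 1) rfl f.2
  map_add' f g := (J.add_extMk f.1 g.1 (n + 1) rfl f.2 g.2).symm
  map_smul' r f := smul_extMk J r f.1 f.2

theorem toExt_surjective (n : ℕ) : Function.Surjective (toExt R A J n) := fun α => by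
  obtain ⟨f, hf, rfl⟩ := J.extMk_surjective α (n + 1) rfl
  exact ⟨⟨f, hf⟩, rfl⟩

theorem ker_toExt (n : ℕ) :
    LinearMap.ker (toExt R A J n) =
      LinearMap.range ((homCx R J A).sc' (n - 1) n (n + 1)).moduleCatToCycles := by
  ext f
  rw [LinearMap.mem_ker, LinearMap.mem_range]
  cases n with
  | zero =>
    constructor
    · intro h
      have h' : (f.1 : A ⟶ J.cocomplex.X 0) = 0 :=
        SpecSeq.HomExt.eq_zero_of_extMk_eq_zero J f.1 f.2 h
      exact ⟨0, Subtype.ext (((homCx R J A).sc' 0 0 1).f.hom.map_zero.trans h'.symm)⟩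
    · rintro ⟨g, rfl⟩
      have h0 : ((homCx R J A).sc' 0 0 1).moduleCatToCycles g = 0 := Subtype.ext
        (congrArg (fun t => t g) (congrArg ModuleCat.Hom.hom ((homCx R J A).shape 0 0 (by simp))))
      exact (congrArg (toExt R A J 0) h0).trans (map_zero _)
  | succ m =>
    refine (J.extMk_eq_zero_iff f.1 (m + 2) rfl f.2 m rfl).trans ?_
    exact ⟨fun ⟨g, hg⟩ => ⟨g, Subtype.ext hg⟩, fun ⟨g, hg⟩ => ⟨g, congrArg Subtype.val hg⟩⟩

variable (R A) in
/-- `Hⁿ(Hom(A, J•)) ≅ Extⁿ(A, Y)`. -/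
noncomputable def homologyEquiv (n : ℕ) : (homCx R J A).homology n ≃ₗ[R] Ext A Y n :=
  ((homCx R J A).homologyIsoSc' (n - 1) n (n + 1) (by cases n <;> simp) (by simp) ≪≫
      ((homCx R J A).sc' (n - 1) n (n + 1)).moduleCatHomologyIso).toLinearEquiv ≪≫ₗ
    Submodule.quotEquivOfEq _ _ (ker_toExt J n).symm ≪≫ₗ
      (toExt R A J n).quotKerEquivOfSurjective (toExt_surjective J n)

end Groth.Agent.Lib.ExtLin.Inj
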