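import Mathlib.Algebra.Homology.DerivedCategory.Ext.Linear

/-!
# `Ext` only depends on the isomorphism classes of its arguments
-/

universe w v u

open CategoryTheory CategoryTheory.Abelian

namespace Groth.Agent.Lib.ExtLin.Congr

variable (R : Type v) [CommRing R] {C : Type u} [Category.{v} C] [Abelian C] [Linear R C] [HasExt.{w} C]

/-- An isomorphism in each variable gives an isomorphism of `Ext`. -/
noncomputable def extCongr {A A' B B' : C} (a : A ≅ A') (b : B ≅ B') (n : ℕ) :
    Ext.{w} A B n ≃ₗ[R] Ext.{w} A' B' n :=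
  LinearEquiv.ofBijective
    { toFun := fun α => (Ext.mk₀ a.inv).comp (α.comp (Ext.mk₀ b.hom) (add_zero n)) (zero_add n)
      map_add' := fun α β => by simp
      map_smul' := fun r α => by simp }
    ⟨fun α β h => by
        have := congrArg (fun γ : Ext A' B' n =>
          (Ext.mk₀ a.hom).comp (γ.comp (Ext.mk₀ b.inv) (add_zero n)) (zero_add n)) h
        simpa [Ext.comp_assoc_of_second_deg_zero, Ext.comp_assoc_of_third_deg_zero] using this,
      fun γ => ⟨(Ext.mk₀ a.hom).comp (γ.comp (Ext.mk₀ b.inv) (add_zero n)) (zero_add n), by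
        simp [Ext.comp_assoc_of_second_deg_zero, Ext.comp_assoc_of_third_deg_zero]⟩⟩

end Groth.Agent.Lib.ExtLin.Congr
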