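import Mathlib.CategoryTheory.Abelian.Injective.Basic
import Mathlib.Algebra.Homology.ShortComplex.HomologicalComplex

/-!
# Complexes of injectives that are exact below a degree

If `J` has injective terms and is exact in degrees `< c` then maps into the cohomology `Hᶜ(J)` lift uniquely
to cocycles modulo coboundaries.
-/

set_option autoImplicit false
set_option linter.style.haveILetI false

universe v u

open CategoryTheory Limits

namespace Groth.Agent.Lib.ExtLin.SplitCx

variable {C : Type u} [Category.{v} C] [Abelian C] (J : CochainComplex C ℕ)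
  (hJ : ∀ n, Injective (J.X n))

include hJ in
/-- The differentials below an exactness bound are von Neumann regular. -/
theorem exists_retract : ∀ (j : ℕ), (∀ i ≤ j, J.ExactAt i) →
    ∃ r : J.X (j + 1) ⟶ J.X j, J.d j (j + 1) ≫ r ≫ J.d j (j + 1) = J.d j (j + 1) := by
  intro j
  induction j with
  | zero =>
    intro h
    have hex : (J.sc' 0 0 1).Exact := (J.exactAt_iff' 0 0 1 (by simp) (by simp)).1 (h 0 le_rfl)
    have hmono : Mono (J.d 0 1) := hex.mono_g (J.shape 0 0 (by simp))
    haveI := hJ 0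
    haveI := hmono
    refine ⟨Injective.factorThru (𝟙 _) (J.d 0 1), ?_⟩
    rw [← Category.assoc, Injective.comp_factorThru, Category.id_comp]
  | succ j ih =>
    intro h
    obtain ⟨r, hr⟩ := ih fun i hi => h i (Nat.le_succ_of_le hi)
    have hex : (J.sc' j (j + 1) (j + 2)).Exact :=
      (J.exactAt_iff' j (j + 1) (j + 2) (by simp) (by simp)).1 (h (j + 1) le_rfl)
    haveI := hJ (j + 1)
    let e : J.X (j + 1) ⟶ J.X (j + 1) := 𝟙 _ - r ≫ J.d j (j + 1)
    have he : J.d j (j + 1) ≫ e = 0 := by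
      rw [Preadditive.comp_sub, Category.comp_id, hr, sub_self]
    refine ⟨hex.descToInjective e he, ?_⟩
    rw [← Category.assoc]
    refine (congrArg (· ≫ J.d (j + 1) (j + 2)) (hex.comp_descToInjective e he)).trans ?_
    show (𝟙 _ - r ≫ J.d j (j + 1)) ≫ J.d (j + 1) (j + 2) = J.d (j + 1) (j + 2)
    rw [Preadditive.sub_comp, Category.id_comp, Category.assoc, J.d_comp_d, comp_zero, sub_zero]

include hJ in
/-- A section of cocycles onto the cohomology in the first nonexact degree. -/
theorem exists_section (c : ℕ) (h : ∀ i < c, J.ExactAt i) :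
    ∃ s : J.homology c ⟶ J.X c, s ≫ J.d c (c + 1) = 0 ∧
      (∀ {F : C} (g : F ⟶ J.X c), g ≫ J.d c (c + 1) = 0 →
        ∃ (φ : F ⟶ J.homology c) (η : F ⟶ J.X (c - 1)), g = φ ≫ s + η ≫ J.d (c - 1) c) ∧
      ∀ {F : C} (φ : F ⟶ J.homology c) (η : F ⟶ J.X (c - 1)), φ ≫ s = η ≫ J.d (c - 1) c → φ = 0 := by
  obtain ⟨r, hr⟩ : ∃ r : J.X c ⟶ J.X (c - 1), J.d (c - 1) c ≫ r ≫ J.d (c - 1) c = J.d (c - 1) c := by
    cases c with
    | zero => exact ⟨0, by simp [J.shape 0 0 (by simp)]⟩
    | succ c => exact exists_retract J hJ c fun i hi => h i (Nat.lt_succ_of_le hi)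
  have hc : (ComplexShape.up ℕ).prev c = c - 1 := by cases c <;> simp
  let π : J.cycles c ⟶ J.homology c := J.homologyπ c
  let δ : J.X (c - 1) ⟶ J.cycles c := J.toCycles (c - 1) c
  let p : J.cycles c ⟶ J.cycles c := 𝟙 _ - J.iCycles c ≫ r ≫ δ
  have hδ : δ ≫ J.iCycles c = J.d (c - 1) c := J.toCycles_i _ _
  have hp : δ ≫ p = 0 := by
    rw [← cancel_mono (J.iCycles c), zero_comp, Preadditive.comp_sub, Category.comp_id, Preadditive.sub_comp]
    simp only [Category.assoc, reassoc_of% hδ, hδ]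
    rw [hr, sub_self]
  let σ : J.homology c ⟶ J.cycles c :=
    (J.homologyIsCokernel (c - 1) c hc).desc (CokernelCofork.ofπ p hp)
  have hπσ : π ≫ σ = p := (J.homologyIsCokernel (c - 1) c hc).fac (CokernelCofork.ofπ p hp) WalkingParallelPair.one
  have hδπ : δ ≫ π = 0 := J.toCycles_comp_homologyπ _ _
  have hσπ : σ ≫ π = 𝟙 _ := by
    haveI : Epi π := inferInstanceAs (Epi (J.homologyπ c))
    rw [← cancel_epi π, ← Category.assoc, hπσ, Category.comp_id, Preadditive.sub_comp, Category.id_comp]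
    simp [hδπ]
  refine ⟨σ ≫ J.iCycles c, by rw [Category.assoc, J.iCycles_d, comp_zero], fun g hg => ?_,
    fun φ η e => ?_⟩
  · let z := J.liftCycles g (c + 1) (by simp) hg
    have hz : z ≫ J.iCycles c = g := J.liftCycles_i _ _ _ _
    refine ⟨z ≫ π, g ≫ r, ?_⟩
    rw [Category.assoc, reassoc_of% hπσ, Preadditive.sub_comp, Category.id_comp, Preadditive.comp_sub]
    simp only [Category.assoc, hδ, reassoc_of% hz, hz]
    rw [sub_add_cancel]
  · have : φ ≫ σ = η ≫ δ := by
      rw [← cancel_mono (J.iCycles c), Category.assoc, e, Category.assoc, hδ]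
    calc φ = φ ≫ σ ≫ π := by rw [hσπ, Category.comp_id]
      _ = 0 := by rw [reassoc_of% this, hδπ, comp_zero]

end Groth.Agent.Lib.ExtLin.SplitCx
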