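import Groth.Agent.Lib.ExtLin.Inj
import Groth.Agent.Lib.Modules.DerivedComm
import Mathlib.CategoryTheory.Adjunction.Additive
import Mathlib.CategoryTheory.Linear.Basic
import Mathlib.Algebra.Category.ModuleCat.Abelian

/-!
# Ext groups along an adjunction with exact right adjoint preserving injectives
-/

set_option autoImplicit false
set_option linter.style.haveILetI false
universe v u₁ u₂

open CategoryTheory CategoryTheory.Limits Opposite

noncomputable section

namespace Groth.Agent.Lib.ExtLin.Adj

open Groth.Agent.Lib Groth.Agent.Lib.Modules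

/-- Preadditive categories are linear over the lifted integers. -/
@[implicit_reducible]
def linearULift (E : Type*) [Category.{v} E] [Preadditive E] : Linear (ULift.{v} ℤ) E where
  homModule _ _ := @ULift.module _ _ _ _ (AddCommGroup.toIntModule _)
  smul_comp _ _ _ r f g := map_zsmul (Preadditive.rightComp _ g) r.down f
  comp_smul _ _ _ f r g := map_zsmul (Preadditive.leftComp _ f) r.down g

attribute [local instance] linearULift

variable {C : Type u₁} [Category.{v} C] [Abelian C] [HasExt.{v} C]
  {D : Type u₂} [Category.{v} D] [Abelian D] [HasExt.{v} D]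
  {L : C ⥤ D} {T : D ⥤ C} (adj : L ⊣ T)

include adj in
/-- `Hom(L A, -) ≅ Hom(A, T -)` on `ℤ`-modules. -/
theorem nonempty_homIso (A : C) (J : CochainComplex D ℕ) [T.Additive] (n : ℕ) :
    Nonempty (((((linearCoyoneda (ULift.{v} ℤ) D).obj (op (L.obj A))).mapHomologicalComplex _).obj J).homology n ≅
      ((((linearCoyoneda (ULift.{v} ℤ) C).obj (op A)).mapHomologicalComplex _).obj
        ((T.mapHomologicalComplex _).obj J)).homology n) := by
  haveI : L.Additive := adj.left_adjoint_additive
  let γ : (linearCoyoneda (ULift.{v} ℤ) D).obj (op (L.obj A)) ≅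
      T ⋙ (linearCoyoneda (ULift.{v} ℤ) C).obj (op A) :=
    NatIso.ofComponents
      (fun Y => LinearEquiv.toModuleIso
        { adj.homAddEquiv A Y with
          map_smul' := fun r f => map_zsmul (adj.homAddEquiv A Y) r.down f })
      fun g => by
        ext f
        exact adj.homEquiv_naturality_right f g
  exact ⟨(HomologicalComplex.homologyFunctor _ _ n).mapIso ((NatIso.mapHomologicalComplex γ _).app J)⟩

attribute [-instance] ULift.module in
include adj in
/-- `Extⁿ(L A, Y) ≅ Extⁿ(A, T Y)`. -/
theorem nonempty_extEquiv [EnoughInjectives D] [T.Additive] [T.PreservesInjectiveObjects] [T.PreservesHomology]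
    (A : C) (Y : D) (n : ℕ) : Nonempty (Abelian.Ext.{v} (L.obj A) Y n ≃+ Abelian.Ext.{v} A (T.obj Y) n) := by
  let J := injectiveResolution Y
  obtain ⟨e⟩ := nonempty_homIso adj A J.cocomplex n
  exact ⟨(ExtLin.Inj.homologyEquiv (ULift.{v} ℤ) (L.obj A) J n).symm.toAddEquiv.trans
    (e.toLinearEquiv.toAddEquiv.trans
      (ExtLin.Inj.homologyEquiv (ULift.{v} ℤ) A (DerivedComm.mapInjectiveResolution T J) n).toAddEquiv)⟩

end Groth.Agent.Lib.ExtLin.Adj
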