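import Groth.Agent.Lib.ExtLin.Inj
import Groth.Agent.Lib.ExtLin.Congr
import Groth.Agent.Lib.Modules.DerivedComm
import Mathlib.Algebra.Category.ModuleCat.ChangeOfRings
import Mathlib.Algebra.Category.ModuleCat.Ext.HasExt
import Mathlib.Algebra.Category.ModuleCat.EnoughInjectives

/-!
# Ext groups along an isomorphism of rings
-/

set_option autoImplicit false
set_option linter.style.haveILetI false
universe u

open CategoryTheory CategoryTheory.Limits Opposite

noncomputable section

namespace Groth.Agent.Lib.ExtLin.ChangeRings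

open Groth.Agent.Lib Groth.Agent.Lib.Modules

variable {A B : Type u} [CommRing A] [CommRing B] (e : A ≃+* B)

instance : (ModuleCat.restrictScalars.{u} e.toRingHom).IsEquivalence :=
  (ModuleCat.restrictScalarsEquivalenceOfRingEquiv e).isEquivalence_functor

/-- Restriction of scalars along `e`. -/
abbrev T : ModuleCat.{u} B ⥤ ModuleCat.{u} A := ModuleCat.restrictScalars e.toRingHom

/-- `Hom_B(M, N) ⟶ Hom_A(M, N)`. -/
def comp (M N : ModuleCat.{u} B) :
    (T e).obj (((linearCoyoneda B (ModuleCat.{u} B)).obj (op M)).obj N) ⟶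
      ((linearCoyoneda A (ModuleCat.{u} A)).obj (op ((T e).obj M))).obj ((T e).obj N) :=
  ModuleCat.ofHom (X := (T e).obj (((linearCoyoneda B (ModuleCat.{u} B)).obj (op M)).obj N))
    { toFun := fun f => (T e).map (show M ⟶ N from f)
      map_add' := fun f g => rfl
      map_smul' := fun a f => rfl }

/-- `Hom_B(M, -)` commutes with restriction of scalars. -/
def compIso (M : ModuleCat.{u} B) :
    (linearCoyoneda B (ModuleCat.{u} B)).obj (op M) ⋙ T e ≅
      T e ⋙ (linearCoyoneda A (ModuleCat.{u} A)).obj (op ((T e).obj M)) :=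
  NatIso.ofComponents (fun N => @asIso _ _ _ _ (comp e M N)
    ((ConcreteCategory.isIso_iff_bijective _).2
      ((Functor.FullyFaithful.ofFullyFaithful (T e)).map_bijective M N)))
    fun g => by ext f; rfl

/-- `Ext_B(M, N) ≅ Ext_A(M, N)`. -/
theorem nonempty_ext_iso (M N : ModuleCat.{u} B) (n : ℕ) :
    Nonempty ((T e).obj (ModuleCat.of B (Abelian.Ext.{u} M N n)) ≅
      ModuleCat.of A (Abelian.Ext.{u} ((T e).obj M) ((T e).obj N) n)) := by
  let J := injectiveResolution N
  let L := (linearCoyoneda B (ModuleCat.{u} B)).obj (op M)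
  let L' := (linearCoyoneda A (ModuleCat.{u} A)).obj (op ((T e).obj M))
  exact ⟨(T e).mapIso (ExtLin.Inj.homologyEquiv B M J n).toModuleIso.symm ≪≫
    ((((L.mapHomologicalComplex _).obj J.cocomplex).sc n).mapHomologyIso (T e)).symm ≪≫
    (HomologicalComplex.homologyFunctor _ _ n).mapIso
      ((NatIso.mapHomologicalComplex (compIso e M) _).app J.cocomplex :
        ((L ⋙ T e).mapHomologicalComplex _).obj J.cocomplex ≅
          ((T e ⋙ L').mapHomologicalComplex _).obj J.cocomplex) ≪≫
    (ExtLin.Inj.homologyEquiv A ((T e).obj M) (DerivedComm.mapInjectiveResolution (T e) J) n).toModuleIso⟩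

end Groth.Agent.Lib.ExtLin.ChangeRings
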